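import Groth.Agent.S2852
import Groth.Agent.L10.RegularUFD
import Groth.Agent.L21.Smooth.Scheme
import Groth.Agent.L22.IntMult.Stalk
import Groth.Agent.L22.SchemeDim

/-!
The exceptional locus of a proper birational morphism to a smooth variety.
-/

set_option autoImplicit false
set_option linter.style.haveILetI false
set_option backward.isDefEq.respectTransparency false
set_option backward.isDefEq.respectTransparency.types false

universe u

open CategoryTheory CategoryTheory.Limits AlgebraicGeometry TopologicalSpace Topology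

noncomputable section

namespace Groth.L22.ExcLocus

variable {X Y : Scheme.{u}} (f : X ⟶ Y)

/-- A local isomorphism locus of a proper birational morphism is a preimage. -/
theorem exists_isIso_restrict [IsIntegral X] [IsProper f] {U : X.Opens} [IsOpenImmersion (U.ι ≫ f)] {x : X}
    (hx : x ∈ U) : ∃ V : Y.Opens, f x ∈ V ∧ IsIso (f ∣_ V) := by
  let j := U.ι ≫ f
  let V : Y.Opens := j.opensRange
  let s : (U : Scheme.{u}) ⟶ (f ⁻¹ᵁ V : X.Opens) := IsOpenImmersion.lift (f ⁻¹ᵁ V).ι U.ι (by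
    rw [Scheme.Opens.range_ι, Scheme.Opens.range_ι]
    intro z hz
    exact ⟨⟨z, hz⟩, rfl⟩)
  have hs : s ≫ (f ⁻¹ᵁ V).ι = U.ι := IsOpenImmersion.lift_fac _ _ _
  let e : (U : Scheme.{u}) ⟶ (V : Scheme.{u}) := IsOpenImmersion.lift V.ι j (by rw [Scheme.Opens.range_ι]; rfl)
  have he : e ≫ V.ι = j := IsOpenImmersion.lift_fac _ _ _
  haveI : IsOpenImmersion (e ≫ V.ι) := by rw [he]; infer_instance
  haveI : IsOpenImmersion e := IsOpenImmersion.of_comp e V.ι
  haveI : IsIso e := by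
    haveI : Surjective e := ⟨fun v => by
      obtain ⟨z, hz⟩ := v.2
      refine ⟨z, Subtype.ext ?_⟩
      rw [← hz, ← he]
      rfl⟩
    exact isIso_of_isOpenImmersion_of_opensRange_eq_top e (TopologicalSpace.Opens.ext e.surjective.range_eq)
  have hse : s ≫ (f ∣_ V) = e := by
    rw [← cancel_mono V.ι, Category.assoc, morphismRestrict_ι, ← Category.assoc, hs, he]
  haveI : IsClosedImmersion (s ≫ (f ∣_ V)) := by rw [hse]; infer_instance
  haveI : IsClosedImmersion s := IsClosedImmersion.of_comp s (f ∣_ V)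
  haveI : IsOpenImmersion (s ≫ (f ⁻¹ᵁ V).ι) := by rw [hs]; infer_instance
  haveI : IsOpenImmersion s := IsOpenImmersion.of_comp s (f ⁻¹ᵁ V).ι
  have hxV : f x ∈ V := ⟨⟨x, hx⟩, rfl⟩
  haveI : IrreducibleSpace (f ⁻¹ᵁ V : X.Opens) := by
    haveI : Nonempty (f ⁻¹ᵁ V : X.Opens) := ⟨⟨x, hxV⟩⟩
    haveI : IsIntegral (f ⁻¹ᵁ V : X.Opens) := isIntegral_of_isOpenImmersion (f ⁻¹ᵁ V).ι
    infer_instance
  haveI : Surjective s := ⟨fun w => by
    haveI : PreconnectedSpace (f ⁻¹ᵁ V : X.Opens) := inferInstance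
    have hcl : IsClopen (Set.range s) := ⟨s.isClosedEmbedding.isClosed_range, s.isOpenEmbedding.isOpen_range⟩
    rcases isClopen_iff.1 hcl with h | h
    · exact absurd h (Set.range_nonempty_iff_nonempty.2 ⟨⟨x, hx⟩⟩).ne_empty
    · exact (Set.eq_univ_iff_forall.1 h) w⟩
  haveI : IsIso s := isIso_of_isOpenImmersion_of_opensRange_eq_top s (TopologicalSpace.Opens.ext s.surjective.range_eq)
  refine ⟨V, hxV, ?_⟩
  haveI : IsIso (s ≫ (f ∣_ V)) := by rw [hse]; infer_instance
  exact IsIso.of_isIso_comp_left s (f ∣_ V)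

theorem dim_component {k : Type u} [Field k] [IsIntegral X] [IsIntegral Y] (pX : X ⟶ Spec (CommRingCat.of k))
    (pY : Y ⟶ Spec (CommRingCat.of k)) [LocallyOfFiniteType pX] [Smooth pY] (hf : f ≫ pY = pX) [IsProper f]
    (hbir : ∃ V : Y.Opens, (V : Set Y).Nonempty ∧ IsIso (f ∣_ V))
    (Z : Set ↥{x : X | ∀ V : Y.Opens, f x ∈ V → ¬ IsIso (f ∣_ V)})
    (hZ : Z ∈ irreducibleComponents ↥{x : X | ∀ V : Y.Opens, f x ∈ V → ¬ IsIso (f ∣_ V)}) :
    topologicalKrullDim ↥Z + 1 = topologicalKrullDim X := by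
  classical
  revert hZ Z
  haveI : IsLocallyNoetherian X := LocallyOfFiniteType.isLocallyNoetherian pX
  haveI : IsLocallyNoetherian Y := LocallyOfFiniteType.isLocallyNoetherian pY
  set E : Set X := {x : X | ∀ V : Y.Opens, f x ∈ V → ¬ IsIso (f ∣_ V)} with hE
  intro Z hZ
  have hiso : ∀ V : Y.Opens, IsIso (f ∣_ V) → IsOpenImmersion ((f ⁻¹ᵁ V).ι ≫ f) := fun V hV => by
    haveI := hV
    rw [← morphismRestrict_ι]
    infer_instance
  have hiff : ∀ x, x ∈ E ↔ ¬ ∃ W : X.Opens, x ∈ W ∧ IsOpenImmersion (W.ι ≫ f) := fun x => by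
    constructor
    · rintro hx ⟨W, hxW, hW⟩
      haveI := hW
      obtain ⟨V, hV, hi⟩ := exists_isIso_restrict f hxW
      exact hx V hV hi
    · exact fun hx V hV hi => hx ⟨f ⁻¹ᵁ V, hV, hiso V hi⟩
  have hEc : IsClosed E := by
    rw [← isOpen_compl_iff, isOpen_iff_forall_mem_open]
    intro x hx
    obtain ⟨W, hxW, hW⟩ := not_not.1 (fun h => hx ((hiff x).2 h))
    exact ⟨W, fun y hy hyE => (hiff y).1 hyE ⟨W, hy, hW⟩, W.2, hxW⟩
  have hV0 : ∃ W : X.Opens, (W : Set X).Nonempty ∧ IsOpenImmersion (W.ι ≫ f) := by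
    obtain ⟨V, ⟨v, hv⟩, hV⟩ := hbir
    haveI := hV
    obtain ⟨w, -⟩ := (f ∣_ V).surjective ⟨v, hv⟩
    exact ⟨f ⁻¹ᵁ V, ⟨w.1, w.2⟩, hiso V hV⟩
  haveI : QuasiSober E := hEc.isClosedEmbedding_subtypeVal.quasiSober
  have hZc : IsClosed Z := isClosed_of_mem_irreducibleComponents Z hZ
  obtain ⟨ξ, hξ⟩ := QuasiSober.sober hZ.1 hZc
  have hmax : ∀ η : X, (¬ ∃ W : X.Opens, η ∈ W ∧ IsOpenImmersion (W.ι ≫ f)) → η ⤳ (ξ : X) → η = ξ := by
    intro η hη hsp
    let η' : E := ⟨η, (hiff η).2 hη⟩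
    have hsp' : η' ⤳ ξ := (subtype_specializes_iff _ _).2 hsp
    have h1 : Z ⊆ closure {η'} := by
      rw [← hξ]
      exact closure_minimal (Set.singleton_subset_iff.2 hsp'.mem_closure) isClosed_closure
    have h2 : closure {η'} ⊆ Z := hZ.2 isIrreducible_singleton.closure h1
    have h3 : ξ ⤳ η' := hξ.specializes (h2 (subset_closure rfl))
    exact congrArg Subtype.val (hsp'.antisymm h3).eq
  haveI : Smooth pY := inferInstance
  have hY : ∀ y : Y, UniqueFactorizationMonoid (Y.presheaf.stalk y) := fun y => by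
    haveI := Groth.L21.Smooth.regular_stalk pY y
    exact Groth.L10.RegUFD.isUFD _
  have h1 := Groth.Agent.S2852.result f hY hV0 ξ.1 ((hiff _).1 ξ.2) hmax
  obtain ⟨d, b, z, hd, hb, hz, hbz⟩ := Groth.L22.IntMult.dim_stalk_add_closure k pX ξ.1
  have hrange : Set.range (fun t : Z => (t.1 : X)) = closure {(ξ : X)} := by
    rw [show (fun t : Z => (t.1 : X)) = Subtype.val ∘ Subtype.val from rfl, Set.range_comp, Subtype.range_coe,
      ← hξ.def, ← hEc.isClosedEmbedding_subtypeVal.closure_image_eq, Set.image_singleton]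
  rw [← Groth.L22.SchemeDim.topologicalKrullDim_eq_of_isEmbedding
    (IsEmbedding.subtypeVal.comp IsEmbedding.subtypeVal) hrange, hz, hd]
  have hb1 : b = 1 := by exact_mod_cast hb.symm.trans h1
  rw [← hbz, hb1]
  push_cast
  rw [add_comm]

end Groth.L22.ExcLocus
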